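import Cfsg.Agent.H0.QFi22.D
set_option maxRecDepth 100000
set_option Elab.async false
namespace H0.QFi22
open H0 BN 
theorem defs_ok : DefsOK R.p defs 22 := defsOK_of_chk c28
universe u
variable {G : Type u} [Group G] [Finite G] (m0 : Model G) (h0 : m0.R = H0.MFi22.R)
noncomputable def m : Model G := m0.ext (lg := nat_lit 12) (N := nat_lit 4096) (l := H0.MFi22.nl) h0 nl nl_ok 22 rfl defs defs_ok (by decide +kernel)
theorem mR : (m m0 h0).R = R := rfl
variable (hb : m0.pst [118, 326, 1137, 1, 0] = ⊥) (hc : Nat.card G = 64561751654400)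
include h0 hb hc
theorem base : (m m0 h0).pst [118, 326, 1137, 1, 0] = ⊥ := hb
omit hb hc in
theorem ch2_ok : (m m0 h0).ChainOK ch2 [] := ((m m0 h0).chain_cons [0, 1, 2, 3, 4, 5, 6, 7, 8, 0] (Model.via _ (mR m0 h0) (fun R => Model.fixP R [] [[22], [23], [24], [25], [29], [31], [36], [37], [38]]) c6) (Model.via _ (mR m0 h0) (fun R => Model.growP R [[22], [23], [24], [25], [29], [31], [36], [37], [38]] [0, 1, 2, 3, 4, 5, 6, 7, 8, 0] 0 512) c7) ((m m0 h0).chain_cons [0, 1, 2, 3, 4, 0, 1] (Model.via _ (mR m0 h0) (fun R => Model.fixP R [0] [[22, 28, 29, 32, 35], [23, 29, 33, 36, 38], [24, 28, 33, 35, 37], [30, 32], [34, 36, 38]]) c4) (Model.via _ (mR m0 h0) (fun R => Model.growP R [[22, 28, 29, 32, 35], [23, 29, 33, 36, 38], [24, 28, 33, 35, 37], [30, 32], [34, 36, 38]] [0, 1, 2, 3, 4, 0, 1] 1 64) c5) ((m m0 h0).chain_cons [0] (Model.via _ (mR m0 h0) (fun R => Model.fixP R [1, 0] [[22, 24, 29, 31, 32, 33, 34, 37, 38]]) c2) (Model.via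 _ (mR m0 h0) (fun R => Model.growP R [[22, 24, 29, 31, 32, 33, 34, 37, 38]] [0] 2 2) c3) ((m m0 h0).chain_cons [0] (Model.via _ (mR m0 h0) (fun R => Model.fixP R [2, 1, 0] [[22, 24, 27, 28, 29, 30, 37, 38]]) c0) (Model.via _ (mR m0 h0) (fun R => Model.growP R [[22, 24, 27, 28, 29, 30, 37, 38]] [0] 3 2) c1) ((m m0 h0).chain_nil _)))))
theorem pb2 : PBound G (2 ^ (1 + 1)) :=
  (m m0 h0).pbound C2 22 (k := 492567075) (K := 3) (e := 2) hc (lt_step_all (a := 0) (k := 216) (lt_zero_all _) ((m m0 h0).rules_of (base m0 h0 hb hc) (Model.via _ (mR m0 h0) (fun R => rulesB R [118, 326, 1137, 1, 0] (fun i => sh 22 (C2.L i)) (fun i => sh 22 (C2.R i)) 0 216) c8))) (ch2_ok m0 h0) (by decide +kernel) tests2 (all_take_done (all_take_step (all_take_zero _ tests2) (allL_spec c9)) (by decide +kernel))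
    av2 FS2 YS2 rows2 (all_take_done (all_take_step (all_take_step (all_take_step (all_take_zero _ rows2) (allL_spec c10)) (allL_spec c11)) (allL_spec c12)) (by decide +kernel)) c13
omit hb hc in
theorem ch3_ok : (m m0 h0).ChainOK ch3 [] := ((m m0 h0).chain_cons [0, 1, 2, 3, 4, 5, 7, 6, 0, 1, 3, 2, 4, 1, 0] (Model.via _ (mR m0 h0) (fun R => Model.fixP R [] [[43], [44], [45], [46], [47], [48], [49], [50]]) c16) (Model.via _ (mR m0 h0) (fun R => Model.growP R [[43], [44], [45], [46], [47], [48], [49], [50]] [0, 1, 2, 3, 4, 5, 7, 6, 0, 1, 3, 2, 4, 1, 0] 0 2187) c17) ((m m0 h0).chain_cons [0, 1, 0, 1] (Model.via _ (mR m0 h0) (fun R => Model.fixP R [0] [[43, 44, 47, 47, 49, 50, 50, 51], [45, 49, 50]]) c14) (Model.via _ (mR m0 h0) (fun R => Model.growP R [[43, 44, 47, 47, 49, 50, 50, 51], [45, 49, 50]] [0, 1, 0, 1] 1 9) c15) ((m m0 h0).chain_nil _)))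
theorem pb3 : PBound G (3 ^ (1 + 1)) :=
  (m m0 h0).pbound C3 43 (k := 3280076800) (K := 3) (e := 2) hc (lt_step_all (a := 0) (k := 71) (lt_zero_all _) ((m m0 h0).rules_of (base m0 h0 hb hc) (Model.via _ (mR m0 h0) (fun R => rulesB R [118, 326, 1137, 1, 0] (fun i => sh 43 (C3.L i)) (fun i => sh 43 (C3.R i)) 0 71) c18))) (ch3_ok m0 h0) (by decide +kernel) tests3 (all_take_done (all_take_step (all_take_zero _ tests3) (allL_spec c19)) (by decide +kernel))
    av3 FS3 YS3 rows3 (all_take_done (all_take_step (all_take_zero _ rows3) (allL_spec c20)) (by decide +kernel)) c21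
omit hb hc in
theorem ch5_ok : (m m0 h0).ChainOK ch5 [] := ((m m0 h0).chain_cons [0, 1, 0, 1, 0, 1, 0, 1] (Model.via _ (mR m0 h0) (fun R => Model.fixP R [] [[55], [56]]) c22) (Model.via _ (mR m0 h0) (fun R => Model.growP R [[55], [56]] [0, 1, 0, 1, 0, 1, 0, 1] 0 25) c23) ((m m0 h0).chain_nil _))
theorem pb5 : PBound G (5 ^ (0 + 1)) :=
  (m m0 h0).pbound C5 55 (k := 2582470066176) (K := 2) (e := 1) hc (lt_step_all (a := 0) (k := 5) (lt_zero_all _) ((m m0 h0).rules_of (base m0 h0 hb hc) (Model.via _ (mR m0 h0) (fun R => rulesB R [118, 326, 1137, 1, 0] (fun i => sh 55 (C5.L i)) (fun i => sh 55 (C5.R i)) 0 5) c24))) (ch5_ok m0 h0) (by decide +kernel) tests5 (all_take_done (all_take_step (all_take_zero _ tests5) (allL_spec c25)) (by decide +kernel))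
    av5 FS5 YS5 rows5 (all_take_done (all_take_step (all_take_zero _ rows5) (allL_spec c26)) (by decide +kernel)) c27
theorem bound (Γ : Type u) [Group Γ] [Finite Γ] (σ : Γ →* G) (hσ : Cfsg.IsStemExtension σ) : Nat.card σ.ker ∣ 6 :=
  card_ker_dvd (M := 13) (k := 17) (L := [2, 3, 5]) hc (by decide +kernel) (ex_bound (pb2 m0 h0 hb hc) (by decide) (ex_bound (pb3 m0 h0 hb hc) (by decide) (ex_bound (pb5 m0 h0 hb hc) (by decide) ex_bound_nil))) Γ σ hσ
end H0.QFi22
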